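import Groth.Prelude.Def_DerCA
import Mathlib.Algebra.Homology.DerivedCategory.Basic
import Mathlib.RingTheory.Ideal.Maps
import Mathlib.Algebra.Homology.ShortComplex.Linear
import Mathlib.Algebra.Module.LocalizedModule.Exact

/-! The extended alternating Čech complex. -/

open CategoryTheory CategoryTheory.Limits Pretriangulated DerCA

universe u
attribute [local instance] HasDerivedCategory.standard

namespace Groth.Agent.ExtCechLib

variable {R : Type u} [CommRing R] (M : ModuleCat.{u} R)

theorem isZero_extCech_X : ∀ (fs : List R) (q : ℤ), (q < 0 ∨ (fs.length : ℤ) < q) →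
    IsZero ((extCech M fs).X q)
  | [], q, hq => HomologicalComplex.isZero_single_obj_X _ _ _ _ (by simp at hq; omega)
  | f :: fs, q, hq => by
    have h1 := isZero_extCech_X fs q (by simp at hq; omega)
    have h2 := isZero_extCech_X fs (q - 1) (by simp at hq; omega)
    have h3 : IsZero (((locCx (Submonoid.powers f)).obj (extCech M fs)).X (q - 1)) :=
      (locFunctor (Submonoid.powers f)).map_isZero h2
    exact IsZero.of_iso ((biprod_isZero_iff _ _).mpr ⟨h1, h3⟩)
      (mappingCoconeXIso (locCxUnit (Submonoid.powers f) (extCech M fs)) q)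

theorem isZero_extCechH (fs : List R) (q : ℤ) (hq : q < 0 ∨ (fs.length : ℤ) < q) :
    IsZero (extCechH fs M q) :=
  ShortComplex.isZero_homology_of_isZero_X₂ _ (isZero_extCech_X M fs q hq)

/-- The quotient functor. -/
noncomputable abbrev qF : DRing.Cx R ⥤ HomotopyCategory (ModuleCat.{u} R) (ComplexShape.up ℤ) :=
  HomotopyCategory.quotient _ _

theorem cocone_distinguished {K L : DRing.Cx R} (φ : K ⟶ L) :
    qF.mapTriangle.obj (CochainComplex.mappingCocone.triangle φ) ∈ distTriang _ := by
  rw [rotate_distinguished_triangle]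
  exact isomorphic_distinguished _ (HomotopyCategory.mappingCone_triangleh_distinguished φ) _
    (qF.mapTriangleRotateIso.app _ ≪≫
      qF.mapTriangle.mapIso (CochainComplex.mappingCocone.rotateTriangleIso φ))

theorem isIso_locUnit_of_isUnit {g : R} (hg : IsUnit g) (X : ModuleCat.{u} R) :
    IsIso ((locUnit (Submonoid.powers g)).app X) := by
  have h : ∀ s : Submonoid.powers g, IsUnit (s : R) := by
    rintro ⟨_, n, rfl⟩; exact hg.pow n
  haveI : IsLocalizedModule (Submonoid.powers g) (LinearMap.id : X →ₗ[R] X) := by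
    refine ⟨fun s => ?_, fun y => ⟨(y, 1), by simp⟩, fun {x y} h' => ⟨1, by simpa using h'⟩⟩
    exact (h s).map (algebraMap R (Module.End R X))
  rw [ConcreteCategory.isIso_iff_bijective]
  have e : (IsLocalizedModule.iso (Submonoid.powers g) (LinearMap.id : X →ₗ[R] X)).toLinearMap ∘ₗ
      LocalizedModule.mkLinearMap (Submonoid.powers g) X = LinearMap.id := by
    ext x
    exact (LinearEquiv.eq_symm_apply _).1 (DFunLike.congr_fun
      (IsLocalizedModule.iso_symm_comp (Submonoid.powers g) (LinearMap.id : X →ₗ[R] X)) x).symm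
  have hb : Function.Bijective ((IsLocalizedModule.iso (Submonoid.powers g)
      (LinearMap.id : X →ₗ[R] X)) ∘ (LocalizedModule.mkLinearMap (Submonoid.powers g) X)) := by
    rw [← LinearEquiv.coe_toLinearMap, ← LinearMap.coe_comp, e]
    exact Function.bijective_id
  exact (Function.Bijective.of_comp_iff' (LinearEquiv.bijective _) _).mp hb

theorem isIso_locCxUnit_of_isUnit {g : R} (hg : IsUnit g) (K : DRing.Cx R) :
    IsIso (locCxUnit (Submonoid.powers g) K) := by
  haveI : ∀ i, IsIso ((locCxUnit (Submonoid.powers g) K).f i) := fun i =>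
    isIso_locUnit_of_isUnit hg (K.X i)
  exact HomologicalComplex.Hom.isIso_of_components _

theorem isZero_quotient_extCech : ∀ (fs : List R), (∃ f ∈ fs, IsUnit f) → IsZero (qF.obj (extCech M fs))
  | [], h => by simp at h
  | f :: fs, h => by
    refine (Triangle.isZero₁_iff_isIso₂ _ (cocone_distinguished (locCxUnit (Submonoid.powers f) (extCech M fs)))).2 ?_
    by_cases hf : IsUnit f
    · haveI := isIso_locCxUnit_of_isUnit hf (extCech M fs)
      exact inferInstanceAs (IsIso (qF.map (locCxUnit (Submonoid.powers f) (extCech M fs))))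
    · obtain ⟨g, hg, hu⟩ := h
      have hK := isZero_quotient_extCech fs ⟨g, (List.mem_cons.1 hg).resolve_left (by rintro rfl; exact hf hu), hu⟩
      have hL : IsZero (qF.obj ((locCx (Submonoid.powers f)).obj (extCech M fs))) :=
        (((locFunctor (Submonoid.powers f)).mapHomotopyCategory (ComplexShape.up ℤ)).map_isZero hK).of_iso
          (((locFunctor (Submonoid.powers f)).mapHomotopyCategoryFactors (ComplexShape.up ℤ)).app _).symm
      exact ⟨0, hK.eq_of_src _ _, hL.eq_of_src _ _⟩

theorem nonempty_homotopy (fs : List R) (h : ∃ f ∈ fs, IsUnit f) :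
    Nonempty (Homotopy (𝟙 (extCech M fs)) 0) :=
  ⟨HomotopyCategory.homotopyOfEq _ _ ((isZero_quotient_extCech M fs h).eq_of_src _ _)⟩

/-! Torsion. -/

variable (S : Submonoid R)

theorem isZero_loc_iff (N : ModuleCat.{u} R) :
    IsZero ((locFunctor S).obj N) ↔ ∀ x : N, ∃ s : S, (s : R) • x = 0 := by
  constructor
  · intro h x
    haveI : Subsingleton (LocalizedModule S N) := ModuleCat.subsingleton_of_isZero h
    obtain ⟨s, hs⟩ := LocalizedModule.mk_eq.1
      (Subsingleton.elim (α := LocalizedModule S N) (LocalizedModule.mk x 1) (LocalizedModule.mk 0 1))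
    exact ⟨s, by simpa [Submonoid.smul_def] using hs⟩
  · intro h
    haveI : Subsingleton (LocalizedModule S N) := ⟨fun a b => by
      induction a using LocalizedModule.induction_on with
      | h x s =>
        induction b using LocalizedModule.induction_on with
        | h y t =>
          obtain ⟨u, hu⟩ := h ((t : R) • x - (s : R) • y)
          exact LocalizedModule.mk_eq.2 ⟨u, by simpa [smul_sub, sub_eq_zero, Submonoid.smul_def] using hu⟩⟩
    exact ModuleCat.isZero_of_subsingleton (ModuleCat.of R (LocalizedModule S N))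

theorem isZero_loc_loc (T : Submonoid R) (N : ModuleCat.{u} R) (h : IsZero ((locFunctor S).obj N)) :
    IsZero ((locFunctor S).obj ((locFunctor T).obj N)) := by
  rw [isZero_loc_iff] at h ⊢
  intro z
  change LocalizedModule T N at z
  induction z using LocalizedModule.induction_on with
  | h x t =>
    obtain ⟨s, hs⟩ := h x
    refine ⟨s, ?_⟩
    show (s : R) • LocalizedModule.mk x t = (0 : LocalizedModule T N)
    rw [LocalizedModule.smul'_mk, hs, LocalizedModule.zero_mk]

instance preservesHomology_locFunctor : (locFunctor (R := R) S).PreservesHomology := by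
  refine Functor.preservesHomology_of_map_exact _ fun T hT => ?_
  rw [ShortComplex.ShortExact.moduleCat_exact_iff_function_exact] at hT ⊢
  exact IsLocalizedModule.map_exact S (LocalizedModule.mkLinearMap S T.X₁)
    (LocalizedModule.mkLinearMap S T.X₂) (LocalizedModule.mkLinearMap S T.X₃) _ _ hT

/-- Homology of a termwise localisation. -/
noncomputable def homologyLocIso (K : DRing.Cx R) (q : ℤ) :
    ((locCx S).obj K).homology q ≅ (locFunctor S).obj (K.homology q) :=
  (K.sc q).mapHomologyIso (locFunctor S)

theorem isZero_Q_iff (K : DRing.Cx R) :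
    IsZero (DerivedCategory.Q.obj K) ↔ ∀ q, IsZero (K.homology q) := by
  constructor
  · intro h q
    exact ((DerivedCategory.homologyFunctor (ModuleCat.{u} R) q).map_isZero h).of_iso
      ((DerivedCategory.homologyFunctorFactors (ModuleCat.{u} R) q).app K).symm
  · intro h
    obtain ⟨Z, hZ⟩ : ∃ Z : DRing.Cx R, IsZero Z := HasZeroObject.zero
    haveI : QuasiIso (0 : K ⟶ Z) := ⟨fun q => by
      rw [quasiIsoAt_iff_isIso_homologyMap]
      have hz : IsZero (Z.homology q) := ShortComplex.isZero_homology_of_isZero_X₂ _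
        ((HomologicalComplex.eval _ _ q).map_isZero hZ)
      exact ⟨0, (h q).eq_of_src _ _, hz.eq_of_src _ _⟩⟩
    exact (DerivedCategory.Q.map_isZero hZ).of_iso (asIso (DerivedCategory.Q.map (0 : K ⟶ Z)))

theorem loc_triangle_distinguished {K L : DRing.Cx R} (φ : K ⟶ L) :
    DerivedCategory.Qh.mapTriangle.obj (((locFunctor S).mapHomotopyCategory (ComplexShape.up ℤ)).mapTriangle.obj
      (qF.mapTriangle.obj (CochainComplex.mappingCocone.triangle φ))) ∈ distTriang _ :=
  DerivedCategory.Qh.map_distinguished _
    (((locFunctor S).mapHomotopyCategory (ComplexShape.up ℤ)).map_distinguished _ (cocone_distinguished φ))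

/-- `Qh (loc K) = Q (loc K)`. -/
noncomputable def QhLocIso (K : DRing.Cx R) :
    DerivedCategory.Qh.obj (((locFunctor S).mapHomotopyCategory (ComplexShape.up ℤ)).obj (qF.obj K)) ≅
      DerivedCategory.Q.obj ((locCx S).obj K) :=
  DerivedCategory.Qh.mapIso (((locFunctor S).mapHomotopyCategoryFactors (ComplexShape.up ℤ)).app K) ≪≫
    (DerivedCategory.quotientCompQhIso (ModuleCat.{u} R)).app _

theorem isIso_loc_locUnit (X : ModuleCat.{u} R) : IsIso ((locFunctor S).map ((locUnit S).app X)) := by
  rw [ConcreteCategory.isIso_iff_bijective]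
  haveI : IsLocalizedModule S (LinearMap.id : LocalizedModule S X →ₗ[R] LocalizedModule S X) :=
    ⟨fun s => IsLocalizedModule.map_units (LocalizedModule.mkLinearMap S X) s,
      fun y => ⟨(y, 1), by simp⟩, fun {x y} h => ⟨1, by simpa using h⟩⟩
  let e := IsLocalizedModule.iso S (LinearMap.id : LocalizedModule S X →ₗ[R] LocalizedModule S X)
  have he : e.toLinearMap ∘ₗ IsLocalizedModule.map S (LocalizedModule.mkLinearMap S X)
      (LocalizedModule.mkLinearMap S (LocalizedModule S X)) (LocalizedModule.mkLinearMap S X) = LinearMap.id := by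
    refine IsLocalizedModule.ext S (LocalizedModule.mkLinearMap S X)
      (IsLocalizedModule.map_units (LocalizedModule.mkLinearMap S X)) ?_
    ext x
    simp only [LinearMap.comp_apply, IsLocalizedModule.map_apply, LinearEquiv.coe_coe, LinearMap.id_apply, e]
    exact (LinearEquiv.eq_symm_apply _).1
      (IsLocalizedModule.iso_symm_apply' S LinearMap.id _ _ 1 (by simp)).symm
  have hb : Function.Bijective (e ∘ (IsLocalizedModule.map S (LocalizedModule.mkLinearMap S X)
      (LocalizedModule.mkLinearMap S (LocalizedModule S X)) (LocalizedModule.mkLinearMap S X))) := by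
    rw [← LinearEquiv.coe_toLinearMap, ← LinearMap.coe_comp, he]
    exact Function.bijective_id
  exact (Function.Bijective.of_comp_iff' e.bijective _).mp hb

theorem isZero_loc_extCechH : ∀ (fs : List R) (g : R), g ∈ fs → ∀ q : ℤ,
    IsZero ((locFunctor (Submonoid.powers g)).obj (extCechH fs M q))
  | f :: fs, g, hg, q => by
    let S := Submonoid.powers g
    let φ := locCxUnit (Submonoid.powers f) (extCech M fs)
    refine IsZero.of_iso ((isZero_Q_iff _).1 (IsZero.of_iso ?_ (QhLocIso S (extCech M (f :: fs))).symm) q)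
      (homologyLocIso S (extCech M (f :: fs)) q).symm
    refine (Triangle.isZero₁_iff_isIso₂ _ (loc_triangle_distinguished S φ)).2 ?_
    by_cases hgf : g = f
    · subst hgf
      show IsIso (DerivedCategory.Qh.map (((locFunctor S).mapHomotopyCategory (ComplexShape.up ℤ)).map (qF.map φ)))
      haveI : IsIso ((locCx S).map φ) := by
        haveI : ∀ i, IsIso (((locCx S).map φ).f i) := fun i => isIso_loc_locUnit S ((extCech M fs).X i)
        exact HomologicalComplex.Hom.isIso_of_components _
      have : IsIso ((qF ⋙ (locFunctor S).mapHomotopyCategory (ComplexShape.up ℤ)).map φ) :=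
        (NatIso.isIso_map_iff ((locFunctor S).mapHomotopyCategoryFactors (ComplexShape.up ℤ)) φ).2
          (inferInstanceAs (IsIso (qF.map ((locCx S).map φ))))
      exact @Functor.map_isIso _ _ _ _ _ _ DerivedCategory.Qh _ this
    · have hg' := (List.mem_cons.1 hg).resolve_left hgf
      have ih := isZero_loc_extCechH fs g hg'
      have hK : IsZero (DerivedCategory.Q.obj ((locCx S).obj (extCech M fs))) :=
        (isZero_Q_iff _).2 fun q => (ih q).of_iso (homologyLocIso S _ q)
      have hL : IsZero (DerivedCategory.Q.obj ((locCx S).obj ((locCx (Submonoid.powers f)).obj (extCech M fs)))) :=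
        (isZero_Q_iff _).2 fun q => ((isZero_loc_loc S (Submonoid.powers f) _ (ih q)).of_iso
          ((locFunctor S).mapIso (homologyLocIso (Submonoid.powers f) _ q))).of_iso (homologyLocIso S _ q)
      exact ⟨0, (hK.of_iso (QhLocIso S _)).eq_of_src _ _, (hL.of_iso (QhLocIso S _)).eq_of_src _ _⟩

theorem exists_pow_smul_eq_zero (fs : List R) (q : ℤ) (x : extCechH fs M q) :
    ∃ n : ℕ, 1 ≤ n ∧ ∀ f ∈ fs, (f ^ n) • x = 0 := by
  classical
  have h : ∀ f ∈ fs, ∃ n : ℕ, f ^ n • x = 0 := fun f hf => by
    obtain ⟨⟨_, n, rfl⟩, hn⟩ := (isZero_loc_iff _ _).1 (isZero_loc_extCechH M fs f hf q) x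
    exact ⟨n, hn⟩
  choose n hn using h
  refine ⟨fs.attach.toFinset.sup (fun f => n f.1 f.2) + 1, by omega, fun f hf => ?_⟩
  obtain ⟨k, hk⟩ := Nat.exists_eq_add_of_le (Nat.le_succ_of_le (Finset.le_sup (f := fun f : {f // f ∈ fs} => n f.1 f.2)
    (by simp : (⟨f, hf⟩ : {f // f ∈ fs}) ∈ fs.attach.toFinset)))
  rw [Nat.succ_eq_add_one] at hk
  rw [hk, pow_add, mul_comm, mul_smul, hn f hf, smul_zero]

theorem bijective_smul_extCech_X {f : R} (hf : Function.Bijective (fun m : M => f • m)) :
    ∀ (fs : List R) (q : ℤ), IsIso (f • 𝟙 ((extCech M fs).X q))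
  | [], q => by
    by_cases hq : q = 0
    · subst hq
      let e := HomologicalComplex.singleObjXSelf (ComplexShape.up ℤ) 0 M
      haveI : IsIso (f • 𝟙 M) := (ConcreteCategory.isIso_iff_bijective _).2 hf
      show IsIso (f • 𝟙 (((HomologicalComplex.single (ModuleCat.{u} R) (ComplexShape.up ℤ) 0).obj M).X 0))
      have : f • 𝟙 _ = e.hom ≫ (f • 𝟙 M) ≫ e.inv := by simp
      rw [this]; infer_instance
    · have h := HomologicalComplex.isZero_single_obj_X (ComplexShape.up ℤ) 0 M q hq
      exact ⟨0, h.eq_of_src _ _, h.eq_of_src _ _⟩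
  | g :: fs, q => by
    let e := mappingCoconeXIso (locCxUnit (Submonoid.powers g) (extCech M fs)) q
    haveI h1 := bijective_smul_extCech_X hf fs q
    haveI h2 := bijective_smul_extCech_X hf fs (q - 1)
    let T := Submonoid.powers g
    haveI h3 : IsIso (f • 𝟙 (((locCx T).obj (extCech M fs)).X (q - 1))) := by
      have h : (locFunctor T).map (f • 𝟙 ((extCech M fs).X (q - 1)))
          = f • 𝟙 (((locCx T).obj (extCech M fs)).X (q - 1)) := by
        refine ModuleCat.hom_ext (IsLocalizedModule.ext T (LocalizedModule.mkLinearMap T _)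
          (IsLocalizedModule.map_units (LocalizedModule.mkLinearMap T _)) (LinearMap.ext fun x => ?_))
        exact (IsLocalizedModule.map_apply T _ _ _ x).trans (map_smul _ f x)
      haveI := h2
      rw [← h]; exact Functor.map_isIso (locFunctor T) _
    have : f • 𝟙 ((extCech M (g :: fs)).X q) = e.hom ≫ biprod.map (f • 𝟙 _) (f • 𝟙 _) ≫ e.inv := by
      have hb : biprod.map (f • 𝟙 ((extCech M fs).X q)) (f • 𝟙 (((locCx T).obj (extCech M fs)).X (q - 1)))
          = f • 𝟙 _ := by
        apply biprod.hom_ext <;> simp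
      rw [hb, Linear.smul_comp, Category.id_comp, Linear.comp_smul, Iso.hom_inv_id]
      rfl
    haveI hm : IsIso (biprod.map (f • 𝟙 ((extCech M fs).X q))
        (f • 𝟙 (((locCx T).obj (extCech M fs)).X (q - 1)))) :=
      (biprod.mapIso (@asIso _ _ _ _ _ h1) (@asIso _ _ _ _ _ h3)).isIso_hom
    rw [this]
    exact IsIso.comp_isIso' inferInstance (IsIso.comp_isIso' hm inferInstance)

theorem bijective_smul_extCechH {f : R} (hf : Function.Bijective (fun m : M => f • m)) (fs : List R) (q : ℤ) :
    Function.Bijective (fun x : extCechH fs M q => f • x) := by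
  haveI : ∀ i, IsIso ((f • 𝟙 (extCech M fs)).f i) := fun i => bijective_smul_extCech_X M hf fs i
  haveI : IsIso (f • 𝟙 (extCech M fs)) := HomologicalComplex.Hom.isIso_of_components _
  haveI hh : IsIso (HomologicalComplex.homologyMap (f • 𝟙 (extCech M fs)) q) :=
    Functor.map_isIso (HomologicalComplex.homologyFunctor _ _ q) (f • 𝟙 (extCech M fs))
  have e : HomologicalComplex.homologyMap (f • 𝟙 (extCech M fs)) q = f • 𝟙 _ := by
    show ShortComplex.homologyMap ((HomologicalComplex.shortComplexFunctor _ _ q).map (f • 𝟙 _)) = _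
    rw [show (HomologicalComplex.shortComplexFunctor _ _ q).map (f • 𝟙 (extCech M fs))
        = f • 𝟙 ((extCech M fs).sc q) by ext <;> rfl,
      ShortComplex.homologyMap_smul, ShortComplex.homologyMap_id]
    rfl
  rw [e] at hh
  exact (ConcreteCategory.isIso_iff_bijective _).1 hh

theorem isZero_extCechH_of_bijective {fs : List R} {f : R} (hf : f ∈ Ideal.span {a : R | a ∈ fs})
    (hbij : Function.Bijective (fun m : M => f • m)) (q : ℤ) : IsZero (extCechH fs M q) := by
  haveI : Subsingleton (extCechH fs M q) := ⟨fun x y => by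
    rw [← sub_eq_zero]
    obtain ⟨n, -, hn⟩ := exists_pow_smul_eq_zero M fs q (x - y)
    have hle : Ideal.span {a : R | a ∈ fs} ≤
        Ideal.radical (LinearMap.ker (LinearMap.toSpanSingleton R (extCechH fs M q) (x - y))) :=
      Ideal.span_le.2 fun a ha => ⟨n, hn a ha⟩
    obtain ⟨k, hk⟩ := hle hf
    have hk' : f ^ k • (x - y) = 0 := hk
    clear hk
    induction k with
    | zero => simpa using hk'
    | succ k ih =>
      rw [pow_succ', mul_smul] at hk'
      exact ih ((bijective_smul_extCechH M hbij fs q).1 (hk'.trans (smul_zero f).symm))⟩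
  exact ModuleCat.isZero_of_subsingleton _

end Groth.Agent.ExtCechLib
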